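import Groth.Agent.FibIso.Basic
import Groth.Agent.PurBir.Basic
import Groth.Agent.GeomReg.Basic
import Groth.Agent.RegUFD.Basic
import Groth.Agent.SchLocX.Dominant
import Groth.Agent.H23.FinCondSch

/-!
# Isomorphism from the generic fibre over a discrete valuation ring
-/

set_option autoImplicit false
set_option linter.style.haveILetI false
set_option backward.isDefEq.respectTransparency false
set_option backward.isDefEq.respectTransparency.types false
universe u

open CategoryTheory CategoryTheory.Limits AlgebraicGeometry TopologicalSpace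

namespace Groth.Agent.FibIso

variable {X Y : Scheme.{u}}

/-- a valuation ring is not dominated birationally by a bigger local ring -/
theorem isIso_stalkMap_of_valuationRing [IsIntegral X] [IsIntegral Y] (f : X ⟶ Y)
    (hgen : f (genericPoint X) = genericPoint Y) (hiso : IsIso (f.stalkMap (genericPoint X)))
    (ξ : X) [ValuationRing (Y.presheaf.stalk (f ξ))] : IsIso (f.stalkMap ξ) := by
  let A := Y.presheaf.stalk (f ξ)
  let B := X.presheaf.stalk ξ
  let φ : A →+* B := (f.stalkMap ξ).hom
  have hsp : genericPoint X ⤳ ξ := (genericPoint_spec X).specializes trivial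
  let ρB : B →+* X.presheaf.stalk (genericPoint X) := (X.presheaf.stalkSpecializes hsp).hom
  let ρA : A →+* Y.presheaf.stalk (f (genericPoint X)) :=
    (Y.presheaf.stalkSpecializes (hsp.map f.continuous)).hom
  have hcomm : ∀ a, (f.stalkMap (genericPoint X)) (ρA a) = ρB (φ a) := fun a =>
    Scheme.Hom.stalkSpecializes_stalkMap_apply f (genericPoint X) ξ hsp a
  have hψ : Function.Bijective (f.stalkMap (genericPoint X)).hom :=
    (ConcreteCategory.isIso_iff_bijective _).1 hiso
  have hBinj : Function.Injective ρB := IsFractionRing.injective B X.functionField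
  have key : ∀ (y : Y) (hy : y = genericPoint Y) (h : y ⤳ f ξ),
      Function.Injective (Y.presheaf.stalkSpecializes h).hom ∧ ∀ k : Y.presheaf.stalk y,
      ∃ a b : A, b ≠ 0 ∧ (Y.presheaf.stalkSpecializes h).hom b * k = (Y.presheaf.stalkSpecializes h).hom a := by
    rintro y rfl h
    refine ⟨IsFractionRing.injective A Y.functionField, fun k => ?_⟩
    obtain ⟨⟨a, b⟩, hab⟩ := IsLocalization.surj (nonZeroDivisors A) (S := Y.functionField) k
    exact ⟨a, b, nonZeroDivisors.ne_zero b.2, (mul_comm _ _).trans hab⟩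
  obtain ⟨hAinj, hAfrac⟩ := key _ hgen (hsp.map f.continuous)
  have hφinj : Function.Injective φ := fun a b h => hAinj (hψ.1 (by
    show (f.stalkMap (genericPoint X)) (ρA a) = (f.stalkMap (genericPoint X)) (ρA b)
    rw [hcomm, hcomm, h]))
  refine (ConcreteCategory.isIso_iff_bijective _).2 ⟨hφinj, fun b => ?_⟩
  obtain ⟨k, hk⟩ := hψ.2 (ρB b)
  obtain ⟨a, c, hc, hac⟩ := hAfrac k
  have hrel : φ c * b = φ a := hBinj (by
    rw [map_mul, ← hcomm, ← hcomm]
    show _ * ρB b = _
    rw [← hk, ← map_mul]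
    exact congrArg _ hac)
  have hc' : φ c ≠ 0 := fun h => hc (hφinj (h.trans (map_zero φ).symm))
  rcases ValuationRing.dvd_total c a with ⟨t, rfl⟩ | ⟨t, rfl⟩
  · exact ⟨t, (mul_left_cancel₀ hc' (hrel.trans (map_mul φ c t))).symm⟩
  · rw [map_mul, mul_assoc] at hrel
    have ha : φ a ≠ 0 := fun h => hc' (by rw [map_mul, h, zero_mul])
    have h1 : φ t * b = 1 := mul_left_cancel₀ ha (hrel.trans (mul_one _).symm)
    have hu : IsUnit t := (isUnit_map_iff (f.stalkMap ξ).hom t).1 (IsUnit.of_mul_eq_one _ h1)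
    refine ⟨(↑hu.unit⁻¹ : A), mul_left_cancel₀ (left_ne_zero_of_mul (h1.trans_ne one_ne_zero)) ?_⟩
    show φ t * φ _ = _
    rw [h1, ← map_mul, IsUnit.mul_val_inv, map_one]

theorem isRegularLocalRing_stalk_of_smooth {R : Type u} [CommRing R] [IsRegularRing R]
    (g : Y ⟶ Spec (CommRingCat.of R)) [Smooth g] (y : Y) : IsRegularLocalRing (Y.presheaf.stalk y) := by
  obtain ⟨W, hW, hyW, -⟩ := exists_isAffineOpen_mem_and_subset (x := y) (U := ⊤) trivial
  have h1 := HasRingHomProperty.appLE (P := @Smooth) g inferInstance ⟨⊤, isAffineOpen_top _⟩ ⟨W, hW⟩ (by simp)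
  have h2 := RingHom.Smooth.respectsIso.2 _ (Scheme.ΓSpecIso (CommRingCat.of R)).symm.commRingCatIsoToRingEquiv h1
  algebraize [((g.appLE ⊤ W (by simp)).hom.comp
    (Scheme.ΓSpecIso (CommRingCat.of R)).symm.commRingCatIsoToRingEquiv.toRingHom)]
  haveI : Algebra.Smooth R Γ(Y, W) := h2
  haveI := GeomReg.isRegularRing_of_smooth R Γ(Y, W)
  letI := TopCat.Presheaf.algebra_section_stalk Y.presheaf (⟨y, hyW⟩ : W)
  haveI := hW.isLocalization_stalk ⟨y, hyW⟩
  haveI := IsRegularRing.isRegularLocalRing_localization (R := Γ(Y, W)) (hW.primeIdealOf ⟨y, hyW⟩).asIdeal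
  exact IsRegularLocalRing.of_ringEquiv
    (IsLocalization.algEquiv (hW.primeIdealOf ⟨y, hyW⟩).asIdeal.primeCompl
      (Localization.AtPrime (hW.primeIdealOf ⟨y, hyW⟩).asIdeal) (Y.presheaf.stalk y)).toRingEquiv

variable {R : Type u} [CommRing R] [IsDomain R] [IsDiscreteValuationRing R]

/-- the integral case -/
theorem isIso_dvr_aux [IsIntegral Y] (f : X ⟶ Y) (g : Y ⟶ Spec (CommRingCat.of R)) [Smooth g] [IsProper f]
    [Flat (f ≫ g)] (π : R) (hπ : Irreducible π)
    (hgen : IsIso (f ∣_ (g ⁻¹ᵁ PrimeSpectrum.basicOpen π)))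
    (hcl : IsPreirreducible ((f ≫ g) ⁻¹' {IsLocalRing.closedPoint R})) : IsIso f := by
  haveI : IsRegularRing R := inferInstance
  let U : (Spec (CommRingCat.of R)).Opens := PrimeSpectrum.basicOpen π
  let V : Y.Opens := g ⁻¹ᵁ U
  let W : X.Opens := f ⁻¹ᵁ V
  have hU : ∀ z : Spec (CommRingCat.of R), z ∈ U ↔ z ≠ IsLocalRing.closedPoint R := fun z => by
    show π ∉ (z : PrimeSpectrum R).asIdeal ↔ _
    rw [not_iff_not.symm, not_not, not_not]
    refine ⟨fun h => PrimeSpectrum.ext (IsLocalRing.eq_maximalIdeal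
      (Ideal.IsPrime.isMaximal_of_ne_bot (z : PrimeSpectrum R).isPrime fun h0 => hπ.ne_zero
        (Ideal.mem_bot.1 (h0 ▸ h)))), fun h => h ▸ ?_⟩
    exact hπ.not_isUnit
  haveI : IsDominant U.ι := by
    refine ⟨?_⟩
    rw [DenseRange, Scheme.Opens.range_ι]
    refine U.2.dense ⟨(⟨⊥, Ideal.isPrime_bot⟩ : PrimeSpectrum R), ?_⟩
    show π ∉ (⊥ : Ideal R)
    simpa using hπ.ne_zero
  haveI : IsNoetherianRing R := inferInstance
  haveI : QuasiCompact U.ι := inferInstance
  haveI : IsSchemeTheoreticallyDominant U.ι := .of_isDominant _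
  haveI : IsSchemeTheoreticallyDominant V.ι := .of_isPullback (isPullback_morphismRestrict g U)
  haveI : QuasiCompact V.ι :=
    MorphismProperty.of_isPullback (P := @QuasiCompact) (isPullback_morphismRestrict g U) inferInstance
  haveI : IsSchemeTheoreticallyDominant W.ι :=
    .of_isPullback (f := U.ι) (g := f ≫ g) (isPullback_morphismRestrict (f ≫ g) U)
  haveI : QuasiCompact W.ι :=
    MorphismProperty.of_isPullback (P := @QuasiCompact)
      (isPullback_morphismRestrict (f ≫ g) U) (inferInstance : QuasiCompact U.ι)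
  haveI : Nonempty V := by
    obtain ⟨v⟩ := (inferInstance : IsDominant V.ι).denseRange.nonempty_iff.2 inferInstance
    exact ⟨v⟩
  haveI : IsIso (f ∣_ V) := hgen
  haveI : Nonempty W := ⟨(inv (f ∣_ V)) (Classical.arbitrary V)⟩
  haveI hWf : IsOpenImmersion (W.ι ≫ f) := by
    rw [← morphismRestrict_ι f V]; infer_instance
  haveI : IsIntegral W.toScheme := isIntegral_of_isOpenImmersion (W.ι ≫ f)
  haveI : IsReduced X := IsSchemeTheoreticallyDominant.isReduced W.ι
  haveI : IrreducibleSpace X := by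
    have h1 : IsIrreducible (Set.range W.ι) := by
      rw [← Set.image_univ]
      exact (IrreducibleSpace.isIrreducible_univ W.toScheme).image _ W.ι.continuous.continuousOn
    exact (irreducibleSpace_def X).2 (by
      have h2 := h1.closure
      rwa [W.ι.denseRange.closure_eq] at h2)
  haveI : IsIntegral X := isIntegral_of_irreducibleSpace_of_isReduced X
  haveI : IsLocallyNoetherian Y := LocallyOfFiniteType.isLocallyNoetherian g
  haveI : IsLocallyNoetherian X := LocallyOfFiniteType.isLocallyNoetherian f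
  have hsurj : Function.Surjective f := by
    intro y
    have h1 : Set.range V.ι ⊆ Set.range f := by
      rintro _ ⟨v, rfl⟩
      refine ⟨W.ι (inv (f ∣_ V) v), ?_⟩
      rw [← Scheme.Hom.comp_apply, ← morphismRestrict_ι, Scheme.Hom.comp_apply, ← Scheme.Hom.comp_apply (inv _),
        IsIso.inv_hom_id]
      rfl
    have h2 := closure_minimal h1 f.isClosedMap.isClosed_range
    rw [V.ι.denseRange.closure_eq] at h2
    exact h2 trivial
  have hY : ∀ y : Y, UniqueFactorizationMonoid (Y.presheaf.stalk y) := fun y => by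
    haveI := isRegularLocalRing_stalk_of_smooth g y
    exact (RegUFD.ufd _).2
  have hV' : ∃ (W : X.Opens), (W : Set X).Nonempty ∧ IsOpenImmersion (W.ι ≫ f) :=
    ⟨W, Set.nonempty_coe_sort.1 ‹_›, hWf⟩
  obtain ⟨hfgen, hiso, -⟩ := PurBir.generic_mem f hV'
  have hgenW : ∀ {x : X}, (f ≫ g) x ≠ IsLocalRing.closedPoint R → x ∈ W := fun {x} h => (hU _).2 h
  have hgenX : genericPoint X ∈ W :=
    ((genericPoint_spec X).mem_open_set_iff W.2).2 (by simpa using Set.nonempty_coe_sort.1 ‹Nonempty W›)
  have hloc : ∀ t : X, ∃ O : X.Opens, t ∈ O ∧ IsOpenImmersion (O.ι ≫ f) := by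
    by_contra hex
    push Not at hex
    obtain ⟨t, ht⟩ := hex
    obtain ⟨x, hx, hmax⟩ := PurBir.exists_maximal f (t := t) (fun ⟨O, hO, h⟩ => ht O hO h)
    have hdim := PurBir.ringKrullDim_eq_one f hY hV' x hx hmax
    have hxs : (f ≫ g) x = IsLocalRing.closedPoint R := by
      by_contra h
      exact hx ⟨W, hgenW h, hWf⟩
    have hZirr : IsIrreducible ((f ≫ g) ⁻¹' {IsLocalRing.closedPoint R}) := ⟨⟨x, hxs⟩, hcl⟩
    have hZc : IsClosed ((f ≫ g) ⁻¹' {IsLocalRing.closedPoint R}) :=
      (IsLocalRing.isClosed_singleton_closedPoint R).preimage (f ≫ g).continuous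
    have hξ : IsGenericPoint hZirr.genericPoint ((f ≫ g) ⁻¹' {IsLocalRing.closedPoint R}) := by
      have := hZirr.isGenericPoint_genericPoint_closure
      rwa [hZc.closure_eq] at this
    have hspx : hZirr.genericPoint ⤳ x := hξ.specializes hxs
    have hξx : hZirr.genericPoint = x := by
      by_contra hne
      rw [ringKrullDim_stalk_eq_coheight] at hdim
      have hd : Order.coheight x = (1 : ℕ∞) := by exact_mod_cast hdim
      have hle : Order.coheight hZirr.genericPoint ≤ (1 : ℕ∞) :=
        hd ▸ Order.coheight_anti (Scheme.le_iff_specializes.2 hspx)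
      have hlt : Order.coheight hZirr.genericPoint < Order.coheight x :=
        Order.coheight_strictAnti ⟨Scheme.le_iff_specializes.2 hspx, fun h => hne
          (hspx.antisymm (Scheme.le_iff_specializes.1 h)).eq⟩ (hle.trans_lt (ENat.natCast_lt_top 1))
      rw [hd, ENat.lt_one_iff_eq_zero, Order.coheight_eq_zero] at hlt
      have hge : genericPoint X ⤳ hZirr.genericPoint := (genericPoint_spec X).specializes trivial
      have he : hZirr.genericPoint = genericPoint X :=
        ((Scheme.le_iff_specializes.1 (hlt (Scheme.le_iff_specializes.2 hge))).antisymm hge).eq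
      have hs : (f ≫ g) hZirr.genericPoint = IsLocalRing.closedPoint R := hξ.mem
      rw [he] at hs
      exact (hU _).1 hgenX hs
    have hy : ∀ y' : Y, g y' = IsLocalRing.closedPoint R → f x ⤳ y' := fun y' h => by
      obtain ⟨x', rfl⟩ := hsurj y'
      exact (hξx ▸ hξ.specializes (show x' ∈ (f ≫ g) ⁻¹' {IsLocalRing.closedPoint R} from h)).map f.continuous
    haveI := hY (f x)
    let A := Y.presheaf.stalk (f x)
    let φ : CommRingCat.of R ⟶ A := Spec.preimage (Y.fromSpecStalk (f x) ≫ g)
    have hmin : IsLocalRing.maximalIdeal A ∈ (Ideal.span {φ π}).minimalPrimes := by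
      have hq : ∀ q : PrimeSpectrum A, φ π ∈ q.asIdeal → q = IsLocalRing.closedPoint A := fun q hq => by
        have h1 : g (Y.fromSpecStalk (f x) q) = IsLocalRing.closedPoint R := by
          by_contra h
          have h2 : g (Y.fromSpecStalk (f x) q) ∈ U := (hU _).2 h
          rw [← Scheme.Hom.comp_apply, ← Spec.map_preimage (Y.fromSpecStalk (f x) ≫ g)] at h2
          exact h2 hq
        have h3 : Y.fromSpecStalk (f x) q = f x := ((hy _ h1).antisymm (PurBir.eq_specializes _ _)).eq.symm
        exact (Y.fromSpecStalk (f x)).isEmbedding.injective (h3.trans Scheme.fromSpecStalk_closedPoint.symm)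
      refine ⟨⟨inferInstance, (Ideal.span_singleton_le_iff_mem _).2 ?_⟩, fun q hq' hle => ?_⟩
      · show ¬ IsUnit (φ π)
        intro hu
        have h2 : g (Y.fromSpecStalk (f x) (IsLocalRing.closedPoint A)) ∈ U := by
          rw [← Scheme.Hom.comp_apply, ← Spec.map_preimage (Y.fromSpecStalk (f x) ≫ g)]
          exact fun h => h hu
        rw [Scheme.fromSpecStalk_closedPoint] at h2
        exact (hU _).1 h2 hxs
      · haveI := hq'.1
        exact (congrArg PrimeSpectrum.asIdeal
          (hq ⟨q, hq'.1⟩ (hq'.2 (Ideal.mem_span_singleton_self _)))).ge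
    have hht : (IsLocalRing.maximalIdeal A).height ≤ 1 :=
      Ideal.height_le_one_of_isPrincipal_of_mem_minimalPrimes _ _ hmin
    have hprin : (IsLocalRing.maximalIdeal A).IsPrincipal := by
      by_cases h0 : IsLocalRing.maximalIdeal A = ⊥
      · rw [h0]; exact ⟨⟨0, by simp⟩⟩
      · refine UniqueFactorizationMonoid.isPrincipal_of_height_eq_one (le_antisymm hht ?_)
        rw [Order.one_le_iff_ne_zero]
        intro h
        rw [Ideal.height_eq_zero_iff, IsDomain.minimalPrimes_eq_singleton_bot] at h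
        exact h0 h
    haveI : ValuationRing A :=
      ((tfae_of_isNoetherianRing_of_isLocalRing_of_isDomain A).out 4 1).1 hprin
    exact hx (PurBir.exists_isOpenImmersion_nhd f (isIso_stalkMap_of_valuationRing f hfgen hiso x))
  haveI : IsOpenImmersion f := SchLocX.isOpenImmersion_of_isLocalIso f hloc
  haveI : Surjective f := ⟨hsurj⟩
  exact (isIso_iff_isOpenImmersion_and_surjective f).2 ⟨‹_›, ‹_›⟩

/-- over a discrete valuation ring -/
theorem isIso_dvr (f : X ⟶ Y) (g : Y ⟶ Spec (CommRingCat.of R)) [Smooth g] [IsProper f]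
    [Flat (f ≫ g)] (π : R) (hπ : Irreducible π)
    (hgen : IsIso (f ∣_ (g ⁻¹ᵁ PrimeSpectrum.basicOpen π)))
    (hcl : IsPreirreducible ((f ≫ g) ⁻¹' {IsLocalRing.closedPoint R})) : IsIso f := by
  haveI : IsRegularRing R := inferInstance
  haveI : IsLocallyNoetherian Y := LocallyOfFiniteType.isLocallyNoetherian g
  have htop : (⊤ : Y.Opens) ≤ isoLocus f := fun y _ => by
    haveI := isRegularLocalRing_stalk_of_smooth g y
    haveI := (RegUFD.ufd (Y.presheaf.stalk y)).1
    obtain ⟨V, hyV, hV⟩ := H23.FinCondSch.exists_integral_nhd y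
    refine Opens.mem_iSup.2 ⟨⟨V, ?_⟩, hyV⟩
    have he : (f ∣_ V) ≫ V.ι ≫ g = (f ⁻¹ᵁ V).ι ≫ f ≫ g := by
      rw [← Category.assoc, morphismRestrict_ι, Category.assoc]
    haveI : Flat ((f ∣_ V) ≫ V.ι ≫ g) := by rw [he]; infer_instance
    haveI : IsProper (f ∣_ V) := IsZariskiLocalAtTarget.restrict ‹_› _
    refine isIso_dvr_aux (f ∣_ V) (V.ι ≫ g) π hπ ?_ ?_
    · rw [← MorphismProperty.isomorphisms.iff, Scheme.Hom.comp_preimage,
        (MorphismProperty.isomorphisms Scheme).arrow_mk_iso_iff (morphismRestrictRestrict f _ _)]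
      have h2 : IsIso (f ∣_ (V ⊓ (g ⁻¹ᵁ PrimeSpectrum.basicOpen π))) :=
        isIso_restrict_of_le f (inf_le_right.trans (le_iSup (fun W : {W : Y.Opens // IsIso (f ∣_ W)} => W.1)
          ⟨_, hgen⟩))
      rw [MorphismProperty.isomorphisms.iff]
      rwa [Scheme.Hom.image_preimage_eq_opensRange_inf, Scheme.Opens.opensRange_ι]
    · rw [he]
      exact hcl.preimage (f ⁻¹ᵁ V).ι.isOpenEmbedding
  rw [← MorphismProperty.isomorphisms.iff]
  exact IsZariskiLocalAtTarget.of_iSup_eq_top (P := .isomorphisms Scheme) (fun _ : PUnit.{1} => (⊤ : Y.Opens))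
    (by simp) (fun _ => isIso_restrict_of_le f htop)

end Groth.Agent.FibIso
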