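import Mathlib
import Groth.Prelude.Def_MoreMor
import Groth.Prelude.Def_CInt
import Groth.Agent.AlgSpPts.Sep
import Groth.Agent.S1386
import Groth.Agent.ConsPropLib.PointwiseProps

/-!
# Morphisms which are isomorphisms on fibres

`f : X ⟶ Y` proper over `g : Y ⟶ S` with `X` flat and locally of finite presentation over `S`.
-/

set_option autoImplicit false
set_option linter.style.haveILetI false
set_option backward.isDefEq.respectTransparency false
set_option backward.isDefEq.respectTransparency.types false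
universe u

open CategoryTheory CategoryTheory.Limits AlgebraicGeometry TopologicalSpace

namespace Groth.Agent.FibIso

variable {X Y S : Scheme.{u}} (f : X ⟶ Y) (g : Y ⟶ S)

/-- points of the target near which the morphism is an isomorphism -/
def isoLocus : Y.Opens := ⨆ W : {W : Y.Opens // IsIso (f ∣_ W)}, W.1

theorem isIso_restrict_of_le {W : Y.Opens} (h : W ≤ isoLocus f) : IsIso (f ∣_ W) := by
  let U : {W : Y.Opens // IsIso (f ∣_ W)} → Y.Opens := fun W => W.1
  have hG : IsIso (f ∣_ isoLocus f) := by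
    rw [← MorphismProperty.isomorphisms.iff,
      IsZariskiLocalAtTarget.iff_of_iSup_eq_top (P := .isomorphisms Scheme)
        (fun i : {W : Y.Opens // IsIso (f ∣_ W)} => (isoLocus f).ι ⁻¹ᵁ i.1)
        (by rw [← Scheme.Hom.preimage_iSup]; exact Scheme.Opens.ι_preimage_self _)]
    intro i
    have hle : (isoLocus f).ι ''ᵁ ((isoLocus f).ι ⁻¹ᵁ i.1) = i.1 := by
      rw [Scheme.Hom.image_preimage_eq_opensRange_inf, Scheme.Opens.opensRange_ι, inf_eq_right]
      exact le_iSup U i
    rw [(MorphismProperty.isomorphisms Scheme).arrow_mk_iso_iff (morphismRestrictRestrict f _ _), hle]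
    exact i.2
  have h2 : IsIso ((f ∣_ isoLocus f) ∣_ ((isoLocus f).ι ⁻¹ᵁ W)) :=
    IsZariskiLocalAtTarget.restrict (P := .isomorphisms Scheme) hG _
  rw [← MorphismProperty.isomorphisms.iff,
    (MorphismProperty.isomorphisms Scheme).arrow_mk_iso_iff (morphismRestrictRestrict f _ _)] at h2
  rw [← MorphismProperty.isomorphisms.iff]
  have hle : (isoLocus f).ι ''ᵁ ((isoLocus f).ι ⁻¹ᵁ W) = W := by
    rw [Scheme.Hom.image_preimage_eq_opensRange_inf, Scheme.Opens.opensRange_ι, inf_eq_right.2 h]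
  rwa [hle] at h2

theorem isIso_pullback_snd_of_isIso_fiberMap (s : S) (hs : IsIso (MoreMor.fiberMap f g s)) {T : Scheme.{u}}
    (a : T ⟶ g.fiber s) : IsIso (pullback.snd f (a ≫ g.fiberι s)) := by
  have h1 := (IsPullback.of_hasPullback (MoreMor.fiberMap f g s) a).paste_horiz
    (ConsPropLib.isPullback_fiberMap f g s)
  rw [← h1.flip.flip.isoPullback_inv_snd]
  infer_instance

theorem subsingleton_preimage (s : S) (hs : IsIso (MoreMor.fiberMap f g s)) {y : Y} (hy : g y = s) :
    (f ⁻¹' {y}).Subsingleton := by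
  intro x hx x' hx'
  have hfx : ∀ z : X, z ∈ f ⁻¹' {y} → ∃ w : ↥((f ≫ g).fiber s), (f ≫ g).fiberι s w = z := fun z hz => by
    have : z ∈ Set.range ((f ≫ g).fiberι s) := by
      rw [Scheme.Hom.range_fiberι]
      show g (f z) = s
      rw [show f z = y from hz, hy]
    exact this
  obtain ⟨w, rfl⟩ := hfx x hx
  obtain ⟨w', rfl⟩ := hfx x' hx'
  congr 1
  apply (MoreMor.fiberMap f g s).homeomorph.injective
  apply (g.fiberι s).isEmbedding.injective
  have h := (ConsPropLib.isPullback_fiberMap f g s).w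
  calc g.fiberι s (MoreMor.fiberMap f g s w) = f ((f ≫ g).fiberι s w) := (congr($h w)).symm
    _ = y := hx
    _ = f ((f ≫ g).fiberι s w') := hx'.symm
    _ = g.fiberι s (MoreMor.fiberMap f g s w') := congr($h w')

variable [LocallyOfFinitePresentation (f ≫ g)] [Flat (f ≫ g)] [LocallyOfFiniteType g] [IsProper f]

theorem mem_isoLocus_of_isIso_fiberMap (s : S) (hs : IsIso (MoreMor.fiberMap f g s)) {y : Y} (hy : g y = s) :
    y ∈ isoLocus f := by
  haveI : LocallyOfFinitePresentation f := Groth.Agent.AlgSpPts.locallyOfFinitePresentation_of_comp f g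
  obtain ⟨V₁, hyV₁, hfin⟩ := exists_isFinite_morphismRestrict_of_finite_preimage_singleton (f := f) y
    (subsingleton_preimage f g s hs hy).finite
  let B : Set X := {x | (g.stalkMap (f x)).hom.Flat ∧ (f.stalkMap x).hom.Flat}
  have hB : IsOpen B := (Groth.Agent.S1386.result f g).2
  let V : Y.Opens := V₁ ⊓ ⟨(f '' Bᶜ)ᶜ, (f.isClosedMap _ hB.isClosed_compl).isOpen_compl⟩
  have hyV : y ∈ V := by
    refine ⟨hyV₁, ?_⟩
    rintro ⟨x, hx, rfl⟩
    refine hx (((Groth.Agent.S1386.result f g).1 x).1 ⟨Flat.stalkMap (f ≫ g) x, ?_⟩)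
    have hiso : IsIso (MoreMor.fiberMap f g (g (f x))) := by rw [hy]; exact hs
    exact Flat.stalkMap _ _
  haveI : IsFinite (f ∣_ V) := by
    have h2 : IsFinite ((f ∣_ V₁) ∣_ (V₁.ι ⁻¹ᵁ V)) := IsZariskiLocalAtTarget.restrict hfin _
    rw [MorphismProperty.arrow_mk_iso_iff @IsFinite (morphismRestrictRestrict f _ _)] at h2
    rwa [Scheme.Hom.image_preimage_eq_opensRange_inf, Scheme.Opens.opensRange_ι,
      inf_eq_right.2 (inf_le_left : V ≤ V₁)] at h2
  haveI : Flat (f ∣_ V) := by
    rw [Flat.iff_flat_stalkMap]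
    intro z
    rw [Groth.Agent.S1386.flat_transfer (f ⁻¹ᵁ V).ι V.ι (morphismRestrict_ι f V) z]
    by_contra hz
    exact z.2.2 ⟨_, fun hb => hz hb.2, rfl⟩
  haveI : LocallyOfFinitePresentation (f ∣_ V) := IsZariskiLocalAtTarget.restrict ‹_› _
  let G : V.toScheme.Opens := ⟨{v | (f ∣_ V).finrank v = 1},
    (f ∣_ V).isLocallyConstant_finrank.isOpen_fiber 1⟩
  have hG : IsIso ((f ∣_ V) ∣_ G) := by
    haveI : IsFinite ((f ∣_ V) ∣_ G) := IsZariskiLocalAtTarget.restrict ‹_› _
    haveI : Flat ((f ∣_ V) ∣_ G) := IsZariskiLocalAtTarget.restrict ‹_› _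
    haveI : LocallyOfFinitePresentation ((f ∣_ V) ∣_ G) := IsZariskiLocalAtTarget.restrict ‹_› _
    rw [Scheme.Hom.isIso_iff_finrank_eq]
    funext v
    rw [Scheme.Hom.finrank_of_isPullback _ _ _ _ (isPullback_morphismRestrict (f ∣_ V) G).flip v]
    exact v.2
  rw [← MorphismProperty.isomorphisms.iff,
    (MorphismProperty.isomorphisms Scheme).arrow_mk_iso_iff (morphismRestrictRestrict f V G)] at hG
  refine Opens.mem_iSup.2 ⟨⟨_, hG⟩, ⟨⟨y, hyV⟩, ?_, rfl⟩⟩
  -- the rank at `y` is one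
  show (f ∣_ V).finrank ⟨y, hyV⟩ = 1
  let T := Spec (Y.residueField y)
  have hrange : Set.range (Y.fromSpecResidueField y) ⊆ Set.range V.ι := by
    rw [Scheme.range_fromSpecResidueField, Scheme.Opens.range_ι]
    exact Set.singleton_subset_iff.2 hyV
  let k : T ⟶ V := IsOpenImmersion.lift V.ι (Y.fromSpecResidueField y) hrange
  have hk : k ≫ V.ι = Y.fromSpecResidueField y := IsOpenImmersion.lift_fac _ _ _
  obtain ⟨a, ha⟩ : ∃ a : T ⟶ g.fiber s, a ≫ g.fiberι s = Y.fromSpecResidueField y := by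
    subst hy
    exact ⟨pullback.lift (Y.fromSpecResidueField y) (Spec.map (g.residueFieldMap y))
      (g.SpecMap_residueFieldMap_fromSpecResidueField y).symm, pullback.lift_fst _ _ _⟩
  haveI : IsIso (pullback.snd f (Y.fromSpecResidueField y)) := ha ▸ isIso_pullback_snd_of_isIso_fiberMap f g s hs a
  have h1 := (IsPullback.of_hasPullback (f ∣_ V) k).paste_horiz (isPullback_morphismRestrict f V).flip
  rw [hk] at h1
  haveI : IsIso (pullback.snd (f ∣_ V) k) := by rw [← h1.isoPullback_hom_snd]; infer_instance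
  let t : T := IsLocalRing.closedPoint (Y.residueField y)
  have h2 := Scheme.Hom.finrank_pullback_snd (f ∣_ V) k t
  have hkt : k t = (⟨y, hyV⟩ : V.toScheme) := V.ι.isOpenEmbedding.injective (by
    rw [← Scheme.Hom.comp_apply, hk, Scheme.fromSpecResidueField_apply]; rfl)
  rw [← hkt, ← h2, Scheme.Hom.finrank_eq_one_of_isIso]
  rfl

/-- isomorphism over an open over which it is one on fibres -/
theorem isIso_restrict (U : S.Opens) (hU : ∀ s ∈ U, IsIso (MoreMor.fiberMap f g s)) :
    IsIso (f ∣_ (g ⁻¹ᵁ U)) :=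
  isIso_restrict_of_le f fun y hy => mem_isoLocus_of_isIso_fiberMap f g (g y) (hU _ hy) rfl

theorem isIso_fiberMap_iff (s : S) : IsIso (MoreMor.fiberMap f g s) ↔ g ⁻¹' {s} ⊆ (isoLocus f : Set Y) := by
  refine ⟨fun h y hy => mem_isoLocus_of_isIso_fiberMap f g s h hy, fun h => ?_⟩
  have hrange : Set.range (g.fiberι s) ⊆ Set.range (isoLocus f).ι := by
    rw [Scheme.Hom.range_fiberι, Scheme.Opens.range_ι]; exact h
  let k := IsOpenImmersion.lift (isoLocus f).ι (g.fiberι s) hrange
  have hk : k ≫ (isoLocus f).ι = g.fiberι s := IsOpenImmersion.lift_fac _ _ _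
  haveI : IsIso (f ∣_ isoLocus f) := isIso_restrict_of_le f le_rfl
  have h1 := (IsPullback.of_hasPullback (f ∣_ isoLocus f) k).paste_horiz (isPullback_morphismRestrict f (isoLocus f)).flip
  rw [hk] at h1
  rw [← IsPullback.isoIsPullback_hom_snd _ _ (ConsPropLib.isPullback_fiberMap f g s) h1]
  haveI : IsIso (pullback.snd (f ∣_ isoLocus f) k) := inferInstance
  infer_instance

theorem isOpen_setOf_isIso_fiberMap [UniversallyClosed g] : IsOpen {s : S | IsIso (MoreMor.fiberMap f g s)} := by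
  have he : {s : S | IsIso (MoreMor.fiberMap f g s)} = (g '' (isoLocus f : Set Y)ᶜ)ᶜ := by
    ext s
    rw [Set.mem_ofPred_eq, isIso_fiberMap_iff]
    exact ⟨fun h ⟨y, hy, hs⟩ => hy (h hs), fun h y hy => by_contra fun hn => h ⟨y, hn, hy⟩⟩
  rw [he]
  exact (g.isClosedMap _ (isoLocus f).2.isClosed_compl).isOpen_compl

omit [LocallyOfFinitePresentation (f ≫ g)] [Flat (f ≫ g)] [LocallyOfFiniteType g] [IsProper f] in
theorem fiberMap_cInt_eq (s : S) : CInt.fiberMap f g s = MoreMor.fiberMap f g s := by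
  unfold CInt.fiberMap MoreMor.fiberMap
  refine pullback.hom_ext ?_ ?_ <;> simp <;> rfl

end Groth.Agent.FibIso
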